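import Cfsg.Agent.Lib.Fusion.ResidualSeries.PSolvExt
import Cfsg.Agent.Lib.Fusion.ConstrainedSubnormal
import Cfsg.Agent.Lib.Fusion.InvariantNormal
import Cfsg.Agent.S5141

/-!
A system whose `p'`-residual subsystem is constrained with `p`-solvable automiser has the same properties.
-/

set_option autoImplicit false
set_option linter.unusedSectionVars false
set_option linter.style.haveILetI false

universe u

namespace Cfsg.FusionSystem

variable {Ω : Type u} [Group Ω] {S : Subgroup Ω} [Finite S] {p : ℕ} [Fact p.Prime] {F : FusionSystem S}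

/-- A system is invariant in itself. -/
theorem isInvariantIn_self (F : FusionSystem S) : F.IsInvariantIn F := by
  refine ⟨fun _ => subset_rfl, ⟨le_rfl, fun R _ φ hφ x => F.apply_mem hφ x⟩, ?_, ?_⟩
  · intro P hPT φ hφ α hα
    have ha : S.subtype.comp α.toMonoidHom ∈ F.Hom S := (F.mem_autGroup_iff le_rfl).mp hα
    have hb : S.subtype.comp (α⁻¹).toMonoidHom ∈ F.Hom S :=
      (F.mem_autGroup_iff le_rfl).mp ((F.autGroup S).inv_mem hα)
    set P' := (P.subgroupOf S).map (S.subtype.comp α.toMonoidHom) with hP'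
    have hle : P' ≤ S := by
      rintro _ ⟨x, -, rfl⟩
      exact (α x).2
    have hinP : ∀ y : P', (S.subtype.comp (α⁻¹).toMonoidHom).comp (Subgroup.inclusion hle) y ∈ P := by
      rintro ⟨_, x, hx, rfl⟩
      show ((α⁻¹ ⟨((α x : S) : Ω), _⟩ : S) : Ω) ∈ P
      rw [show α⁻¹ ⟨((α x : S) : Ω), _⟩ = x from α.symm_apply_apply x]
      exact hx
    obtain ⟨χ₁, hχ₁, he₁⟩ := F.exists_comp (F.restrict_mem hb hle) hφ hinP
    obtain ⟨χ, hχ, he⟩ := F.exists_comp hχ₁ ha (fun y => F.apply_mem hχ₁ y)
    refine ⟨χ, hχ, fun x hφx hαx => ?_⟩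
    rw [he]
    show ((α ⟨_, _⟩ : S) : Ω) = _
    congr 2
    refine Subtype.ext ((he₁ _).trans ?_)
    show φ ⟨_, _⟩ = φ x
    congr 1
    refine Subtype.ext ?_
    show ((α⁻¹ ⟨((α ⟨x, hPT x.2⟩ : S) : Ω), _⟩ : S) : Ω) = x
    rw [show α⁻¹ ⟨((α ⟨x, hPT x.2⟩ : S) : Ω), _⟩ = ⟨(x : Ω), hPT x.2⟩ from α.symm_apply_apply _]
  · intro P hP φ hφ
    exact ⟨1, one_mem _, φ, hφ, fun x hx => rfl⟩

/-- The `p'`-residual subsystem is normal. -/
theorem IsPPrimeResidual.isNormalIn_self (hF : F.IsSaturated p) (hS : IsPGroup p S) {E : FusionSystem S}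
    (hres : F.IsPPrimeResidual p E) : E.IsNormalIn F p :=
  Cfsg.Agent.S5141.result p hS F hF F ⟨hF, hF, isInvariantIn_self F⟩ E hres

/-- Normal subgroups of a system are normal in its saturated subsystems over the same group. -/
theorem IsNormal.of_subsystem {E : FusionSystem S} (hE : E.IsSaturated p) (hS : IsPGroup p S)
    (hsub : E.IsSubsystemOf F) {Q : Subgroup Ω} (hK : F.IsNormal Q) : E.IsNormal Q := by
  haveI := finite_of_le hK.1
  haveI : Group.IsNilpotent Q := (hS.to_le hK.1).isNilpotent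
  obtain ⟨n, hn⟩ := Group.IsNilpotent.nilpotent Q
  let C : ℕ → Subgroup Ω := fun i => (Subgroup.upperCentralSeries Q i).map Q.subtype
  have hC : ∀ i, E.StronglyClosed (C i) := by
    intro i
    have h : F.StronglyClosed (C i) := by
      refine (hK.of_characteristic (Subgroup.map_subtype_le _) ?_).stronglyClosed
      rw [Subgroup.subgroupOf, Subgroup.comap_map_eq_self_of_injective Q.subtype_injective]
      infer_instance
    exact ⟨h.1, fun P hP φ hφ x => h.2 P hP φ (hsub P hφ) x⟩
  refine hE.isNormal_of_series hS (n := n) (fun i => C i) ?_ ?_ ?_ fun i => ⟨hC _, ?_⟩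
  · simp [C]
  · simp [C, hn, ← MonoidHom.range_eq_map]
  · intro i j hij
    exact Subgroup.map_mono (Subgroup.upperCentralSeries_mono _ hij)
  · refine Subgroup.commutator_le.mpr fun a ha b hb => ?_
    obtain ⟨y, hy, rfl⟩ := hb
    have h1 := InvMemClass.inv_mem ((Subgroup.mem_upperCentralSeries_succ_iff.mp hy) ⟨a, ha⟩)
    exact ⟨_, h1, by simp [commutatorElement_def, mul_assoc]⟩

/-- The core of the `p'`-residual subsystem is that of the system. -/
theorem IsPPrimeResidual.core_eq (hF : F.IsSaturated p) (hS : IsPGroup p S) {E : FusionSystem S}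
    (hres : F.IsPPrimeResidual p E) : E.core = F.core :=
  le_antisymm ((hres.isNormalIn_self hF hS).1.2.2.isNormal_core hF hS).le_core
    ((isNormal_core F).of_subsystem hres.1 hS hres.2.1.1).le_core

/-- From the `p'`-residual subsystem up to the system. -/
theorem IsSaturated.pSolvable_of_pPrimeResidual (hF : F.IsSaturated p) (hS : IsPGroup p S)
    {E : FusionSystem S} (hres : F.IsPPrimeResidual p E) (hE : E.IsConstrained p)
    (hsol : IsPSolvable p (E.autGroup E.core)) : F.IsConstrained p ∧ IsPSolvable p (F.autGroup F.core) := by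
  have hcore := hres.core_eq hF hS
  have hKn := isNormal_core F
  have hcen : centralizerIn S F.core ≤ F.core := by
    have h := hE.isCentric_core.2 _ (E.isConj_refl (isNormal_core E).1)
    rwa [hcore] at h
  refine ⟨⟨hF, F.core, hKn, hKn.1, fun R hR => ?_⟩, ?_⟩
  · obtain ⟨φ, hφ, rfl⟩ := hR
    rw [hKn.stronglyClosed.weaklyClosed.2 φ hφ]
    exact hcen
  rw [hcore] at hsol
  haveI := finite_autGroup (F := F) hKn.1
  haveI := finite_autGroup (F := E) hKn.1
  set C : Subgroup (F.autGroup F.core) := Subgroup.closure {α : F.autGroup F.core | ∃ k : ℕ, orderOf α = p ^ k}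
    with hC
  haveI : C.Normal := by
    rw [← Subgroup.normalizer_eq_top_iff, eq_top_iff]
    intro g _
    rw [Subgroup.mem_normalizer_iff]
    have key : ∀ g : F.autGroup F.core, ∀ a ∈ C, g * a * g⁻¹ ∈ C := by
      intro g a ha
      have h : C ≤ C.comap (MulAut.conj g).toMonoidHom := by
        refine (Subgroup.closure_le _).mpr fun b hb => Subgroup.subset_closure ?_
        obtain ⟨k, hk⟩ := hb
        exact ⟨k, ((MulAut.conj g).orderOf_eq b).trans hk⟩
      exact h ha
    exact fun a => ⟨key g a, fun h => by simpa [mul_assoc] using key g⁻¹ _ h⟩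
  have hmem : ∀ c : C, (((c : F.autGroup F.core) : MulAut F.core)) ∈ E.autGroup F.core := fun c =>
    hres.2.1.2 _ hKn.1 ⟨c, c.2, rfl⟩
  let f : C →* E.autGroup F.core := ((F.autGroup F.core).subtype.comp C.subtype).codRestrict _ hmem
  have hf : Function.Injective f := fun a b h => Subtype.ext (Subtype.ext (congrArg Subtype.val h :))
  refine CfsgLib.PSolvableClosure.of_normal _ C (CfsgLib.PSolvableClosure.of_injective f hf hsol) (Or.inr ?_)
  obtain ⟨P⟩ : Nonempty (Sylow p (F.autGroup F.core)) := inferInstance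
  have hPC : (P : Subgroup (F.autGroup F.core)) ≤ C := fun x hx => Subgroup.subset_closure (by
    obtain ⟨k, hk⟩ := P.2 ⟨x, hx⟩
    obtain ⟨j, -, hj⟩ := (Nat.dvd_prime_pow (Fact.out : p.Prime)).mp
      (orderOf_dvd_of_pow_eq_one (congrArg Subtype.val hk : x ^ p ^ k = 1))
    exact ⟨j, hj⟩)
  exact (((Fact.out : p.Prime).coprime_iff_not_dvd.mpr P.not_dvd_index).symm).coprime_dvd_left
    (Subgroup.index_dvd_of_le hPC)

end Cfsg.FusionSystem
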