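import Cfsg.Agent.Lib.Fusion.GroupResidual
import Cfsg.Agent.Lib.Fusion.SolvableSystem
import Cfsg.Agent.Lib.Fusion.InvariantNormal
import Cfsg.Agent.Lib.Fusion.ConstrainedSubnormal
import Cfsg.Agent.S5120
import Cfsg.Agent.S5124

/-!
A system whose residual subsystem is constrained is itself constrained.
-/

set_option autoImplicit false
set_option linter.unusedSectionVars false
set_option linter.style.haveILetI false

universe u

namespace Cfsg.FusionSystem

open scoped commutatorElement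

variable {Ω : Type u} [Group Ω] {S : Subgroup Ω}

/-- Maps of the form: conjugation by an element of `S`, up to factors from `T`. -/
def modSystem (F : FusionSystem S) (T : Subgroup Ω) (hT : ∀ g ∈ S, ∀ t ∈ T, g * t * g⁻¹ ∈ T) : FusionSystem S where
  Hom P := {φ | φ ∈ F.Hom P ∧ ∃ s ∈ S, ∀ x : P, (s * (x : Ω) * s⁻¹)⁻¹ * φ x ∈ T}
  le_of_mem h := F.le_of_mem h.1
  injective_of_mem h := F.injective_of_mem h.1
  conj_mem := by
    intro P g hP hg
    refine ⟨F.conj_mem hP hg, g, hg, fun x => ?_⟩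
    show (g * (x : Ω) * g⁻¹)⁻¹ * (g * (x : Ω) * g⁻¹) ∈ T
    rw [inv_mul_cancel]
    exact one_mem _
  comp_mem := by
    rintro P Q φ ψ ⟨hφ, s, hs, hφs⟩ ⟨hψ, u, hu, hψu⟩ h
    refine ⟨F.comp_mem hφ hψ h, u * s, mul_mem hu hs, fun x => ?_⟩
    show (u * s * (x : Ω) * (u * s)⁻¹)⁻¹ * ψ ⟨φ x, h x⟩ ∈ T
    have e : (u * s * (x : Ω) * (u * s)⁻¹)⁻¹ * ψ ⟨φ x, h x⟩ =
        (u * ((s * (x : Ω) * s⁻¹)⁻¹ * φ x) * u⁻¹) * ((u * φ x * u⁻¹)⁻¹ * ψ ⟨φ x, h x⟩) := by group
    rw [e]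
    exact mul_mem (hT u hu _ (hφs x)) (hψu ⟨φ x, h x⟩)
  inv_mem := by
    rintro P φ ⟨hφ, s, hs, hφs⟩
    obtain ⟨ψ, hψ, hψe⟩ := F.inv_mem hφ
    refine ⟨ψ, ⟨hψ, s⁻¹, InvMemClass.inv_mem hs, ?_⟩, hψe⟩
    rintro ⟨_, x, rfl⟩
    rw [hψe x]
    have e : (s⁻¹ * φ x * s⁻¹⁻¹)⁻¹ * (x : Ω) = (s⁻¹ * ((s * (x : Ω) * s⁻¹)⁻¹ * φ x) * s⁻¹⁻¹)⁻¹ := by group
    rw [e]
    exact InvMemClass.inv_mem (hT _ (InvMemClass.inv_mem hs) _ (hφs x))

/-- Normal subgroups of `S` above the hyperfocal subgroup are strongly closed. -/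
theorem IsSaturated.stronglyClosed_of_hyperfocal_le [Finite S] {p : ℕ} [Fact p.Prime] {F : FusionSystem S}
    (hF : F.IsSaturated p) (hS : IsPGroup p S) {T U : Subgroup Ω} (hT : ∀ g ∈ S, ∀ t ∈ T, g * t * g⁻¹ ∈ T)
    (hhyp : F.hyperfocalSubgroup p ≤ T) (hTU : T ≤ U) (hUS : U ≤ S) (hUn : S ≤ Subgroup.normalizer (U : Set Ω)) :
    F.StronglyClosed U := by
  have hle : F ≤ modSystem F T hT := hF.le_of_pResidual_le hS fun P hP => by
    rintro α ⟨γ, hγ, rfl⟩
    refine ((modSystem F T hT).mem_autGroup_iff hP).mpr ⟨(F.mem_autGroup_iff hP).mp γ.2, 1, one_mem _, fun x => ?_⟩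
    rw [one_mul, inv_one, mul_one]
    exact hhyp (Subgroup.subset_closure ⟨P, γ, x, hP, hγ, rfl⟩)
  refine ⟨hUS, fun P hP φ hφ x => ?_⟩
  obtain ⟨-, s, hs, h⟩ := hle P hφ
  have h1 : s * (x : Ω) * s⁻¹ ∈ U := (Subgroup.mem_normalizer_iff.mp (hUn hs) _).mp (hP x.2)
  have h2 := mul_mem h1 (hTU (h x))
  rwa [mul_inv_cancel_left] at h2

variable [Finite S] {p : ℕ} [Fact p.Prime] {F : FusionSystem S}

/-- A normal subgroup `Q₀ ≤ T` that is self-centralising in `T`: then `Q₀ C_S(Q₀)` is normal in the system. -/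
theorem IsSaturated.isNormal_sup_centralizer (hF : F.IsSaturated p) (hS : IsPGroup p S) {T Q₀ : Subgroup Ω}
    (hhyp : F.hyperfocalSubgroup p ≤ T) (hT : F.StronglyClosed T) (hQ : F.IsNormal Q₀) (hQT : Q₀ ≤ T)
    (hC : centralizerIn T Q₀ ≤ Q₀) :
    F.IsNormal (Q₀ ⊔ centralizerIn S Q₀) ∧ F.IsCentric (Q₀ ⊔ centralizerIn S Q₀) ∧
      T ⊓ (Q₀ ⊔ centralizerIn S Q₀) = Q₀ := by
  set R := Q₀ ⊔ centralizerIn S Q₀ with hR
  have hRsc : F.StronglyClosed R := StronglyClosed.sup_centralizerIn hF hS hQ.stronglyClosed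
  have hCN : centralizerIn S Q₀ ≤ Subgroup.normalizer (Q₀ : Set Ω) :=
    inf_le_left.trans hQ.stronglyClosed.le_normalizer
  have hTR : T ⊓ R = Q₀ := by
    refine le_antisymm (fun x hx => ?_) (le_inf hQT le_sup_left)
    obtain ⟨hxT, hxR⟩ := Subgroup.mem_inf.mp hx
    rw [← SetLike.mem_coe, hR, Subgroup.coe_mul_of_right_le_normalizer_left Q₀ _ hCN] at hxR
    obtain ⟨q, hq, c, hc, rfl⟩ := hxR
    refine mul_mem hq (hC (Subgroup.mem_inf.mpr ⟨?_, (Subgroup.mem_inf.mp hc).2⟩))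
    have := mul_mem (InvMemClass.inv_mem (hQT hq)) hxT
    rwa [inv_mul_cancel_left] at this
  haveI : Finite Q₀ := finite_of_le hQ.1
  haveI : Group.IsNilpotent Q₀ := (hS.to_le hQ.1).isNilpotent
  haveI : Group.IsNilpotent S := hS.isNilpotent
  obtain ⟨N, hN⟩ := Subgroup.nilpotent_iff_lowerCentralSeries.mp (inferInstance : Group.IsNilpotent Q₀)
  obtain ⟨M, hM⟩ := Subgroup.nilpotent_iff_lowerCentralSeries.mp (inferInstance : Group.IsNilpotent S)
  let L : ℕ → Subgroup Ω := fun k => ((⊤ : Subgroup Q₀).lowerCentralSeries k).map Q₀.subtype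
  let W₀ : ℕ → Subgroup S := fun k => T.subgroupOf S ⊔ (⊤ : Subgroup S).lowerCentralSeries k
  let W : ℕ → Subgroup Ω := fun k => (W₀ k).map S.subtype
  have hRS : R ≤ S := hRsc.1
  have hL0 : L 0 = Q₀ := by simp [L, ← MonoidHom.range_eq_map]
  have hLle : ∀ k, L k ≤ Q₀ := fun k => Subgroup.map_subtype_le _
  have hLN : L N = ⊥ := by show ((⊤ : Subgroup Q₀).lowerCentralSeries N).map _ = ⊥; rw [hN, Subgroup.map_bot]
  have hLanti : ∀ a b, a ≤ b → L b ≤ L a := fun a b h =>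
    Subgroup.map_mono (Subgroup.lowerCentralSeries_antitone (S := (⊤ : Subgroup Q₀)) h)
  have hWanti : ∀ a b, a ≤ b → W b ≤ W a := fun a b h =>
    Subgroup.map_mono (sup_le_sup_left (Subgroup.lowerCentralSeries_antitone (S := (⊤ : Subgroup S)) h) _)
  have hTW : ∀ k, T ≤ W k := fun k x hx => ⟨⟨x, hT.1 hx⟩, Subgroup.mem_sup_left hx, rfl⟩
  have hW0 : S ≤ W 0 := fun x hx => ⟨⟨x, hx⟩, Subgroup.mem_sup_right (by simp), rfl⟩
  have hWM : W M = T := by
    refine le_antisymm ?_ (hTW M)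
    show (T.subgroupOf S ⊔ (⊤ : Subgroup S).lowerCentralSeries M).map _ ≤ T
    rw [hM, sup_bot_eq]
    exact Subgroup.map_comap_le _ _
  have hTn : ∀ g ∈ S, ∀ t ∈ T, g * t * g⁻¹ ∈ T := fun g hg t ht =>
    (Subgroup.mem_normalizer_iff.mp (hT.le_normalizer hg) t).mp ht
  haveI hT₀ : (T.subgroupOf S).Normal := ⟨fun x hx g => hTn g g.2 x hx⟩
  have hWn : ∀ k, S ≤ Subgroup.normalizer (W k : Set Ω) := by
    intro k g hg
    have hn : (W₀ k).Normal := Subgroup.sup_normal _ _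
    rw [Subgroup.mem_normalizer_iff]
    intro x
    constructor
    · rintro ⟨y, hy, rfl⟩
      exact ⟨⟨g, hg⟩ * y * ⟨g, hg⟩⁻¹, hn.conj_mem y hy _, rfl⟩
    · rintro ⟨y, hy, e⟩
      refine ⟨⟨g, hg⟩⁻¹ * y * ⟨g, hg⟩, by simpa using hn.conj_mem y hy ⟨g, hg⟩⁻¹, ?_⟩
      show g⁻¹ * (y : Ω) * g = x
      rw [show (y : Ω) = g * x * g⁻¹ from e]
      group
  have hWsc : ∀ k, F.StronglyClosed (W k) := fun k =>
    hF.stronglyClosed_of_hyperfocal_le hS hTn hhyp (hTW k) (Subgroup.map_subtype_le _) (hWn k)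
  have hSW : ∀ k, ⁅S, W k⁆ ≤ W (k + 1) := by
    intro k
    haveI hn : (W₀ (k + 1)).Normal := Subgroup.sup_normal _ _
    have hcentral : ∀ X : Subgroup S, ⁅(⊤ : Subgroup S), X⁆ ≤ W₀ (k + 1) ↔
        X ≤ (Subgroup.center (S ⧸ W₀ (k + 1))).comap (QuotientGroup.mk' _) := by
      intro X
      rw [Subgroup.commutator_le]
      constructor
      · intro h x hx
        refine Subgroup.mem_center_iff.mpr fun y => ?_
        obtain ⟨y, rfl⟩ := QuotientGroup.mk'_surjective _ y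
        rw [← commutatorElement_eq_one_iff_mul_comm, ← map_commutatorElement]
        exact (QuotientGroup.eq_one_iff _).mpr (h y trivial x hx)
      · intro h y _ x hx
        refine (QuotientGroup.eq_one_iff _).mp ?_
        rw [← QuotientGroup.mk'_apply, map_commutatorElement, commutatorElement_eq_one_iff_mul_comm]
        exact Subgroup.mem_center_iff.mp (h hx) _
    have h1 : ⁅(⊤ : Subgroup S), W₀ k⁆ ≤ W₀ (k + 1) := by
      rw [hcentral]
      refine sup_le ((hcentral _).mp (le_trans ?_ le_sup_left)) ((hcentral _).mp (le_trans ?_ le_sup_right))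
      · exact Subgroup.commutator_le_right _ _
      · rw [Subgroup.lowerCentralSeries_succ, Subgroup.commutator_comm]
    have h2 := Subgroup.map_mono (f := S.subtype) h1
    rwa [Subgroup.map_commutator, ← MonoidHom.range_eq_map, Subgroup.range_subtype] at h2
  have hRL : ∀ k, ⁅R, L k⁆ ≤ L (k + 1) := fun k => by
    rw [Subgroup.commutator_le]
    rintro m hm _ ⟨l, hl, rfl⟩
    rw [← SetLike.mem_coe, hR, Subgroup.coe_mul_of_right_le_normalizer_left Q₀ _ hCN] at hm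
    obtain ⟨q, hq, c, hc, rfl⟩ := hm
    have hcl : c * (l : Ω) = l * c := (Subgroup.mem_centralizer_iff.mp hc.2 l l.2).symm
    have e : ⁅q * c, (l : Ω)⁆ = ⁅q, (l : Ω)⁆ := by
      rw [commutatorElement_def, commutatorElement_def]
      calc q * c * (l : Ω) * (q * c)⁻¹ * (l : Ω)⁻¹ = q * (c * l) * c⁻¹ * q⁻¹ * (l : Ω)⁻¹ := by group
        _ = q * (l * c) * c⁻¹ * q⁻¹ * (l : Ω)⁻¹ := by rw [hcl]
        _ = _ := by group
    show ⁅q * c, Q₀.subtype l⁆ ∈ _
    rw [Subgroup.coe_subtype, e, show ⁅q, (l : Ω)⁆ = ((⁅(⟨q, hq⟩ : Q₀), l⁆ : Q₀) : Ω) from rfl]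
    have hmem : ⁅(⟨q, hq⟩ : Q₀), l⁆ ∈ (⊤ : Subgroup Q₀).lowerCentralSeries (k + 1) := by
      rw [Subgroup.lowerCentralSeries_succ, Subgroup.commutator_comm]
      exact Subgroup.commutator_mem_commutator (Subgroup.mem_top _) hl
    exact Subgroup.mem_map_of_mem Q₀.subtype hmem
  have hLsc : ∀ k, F.StronglyClosed (L k) := fun k => (hQ.of_characteristic (hLle k) (by
    rw [show (L k).subgroupOf Q₀ = (⊤ : Subgroup Q₀).lowerCentralSeries k from
      Subgroup.comap_map_eq_self_of_injective (Subgroup.subtype_injective _) _]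
    infer_instance)).stronglyClosed
  have hbot : R ⊓ W M = Q₀ := by rw [hWM, inf_comm, hTR]
  let Qs : Fin (N + M + 1) → Subgroup Ω := fun k =>
    if (k : ℕ) ≤ N then L (N - k) else R ⊓ W (M - ((k : ℕ) - N))
  have hQs : ∀ k : Fin (N + M + 1), N ≤ (k : ℕ) → Qs k = R ⊓ W (M - ((k : ℕ) - N)) := by
    intro k hk
    simp only [Qs]
    split_ifs with h
    · rw [show N - (k : ℕ) = 0 by omega, show M - ((k : ℕ) - N) = M by omega, hL0, hbot]
    · rfl
  have hn : F.IsNormal R := by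
    refine hF.isNormal_of_series hS Qs (by simp [Qs, hLN]) ?_ ?_ ?_
    · rw [hQs _ (by simp), show M - ((Fin.last (N + M) : ℕ) - N) = 0 by simp]
      exact inf_eq_left.mpr (hRS.trans hW0)
    · intro a b hab
      have hab' : (a : ℕ) ≤ b := hab
      rcases le_or_gt N (a : ℕ) with ha | ha
      · rw [hQs a ha, hQs b (ha.trans hab')]
        exact inf_le_inf_left _ (hWanti _ _ (by omega))
      · have e : Qs a = L (N - a) := if_pos ha.le
        rw [e]
        simp only [Qs]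
        split_ifs with hb
        · exact hLanti _ _ (by omega)
        · refine le_trans (hLle _) (le_inf le_sup_left ?_)
          exact hQT.trans (hTW _)
    · intro k
      rcases Nat.lt_or_ge (k : ℕ) N with hk | hk
      · have e1 : Qs k.succ = L (N - (k + 1)) := if_pos (by simp; omega)
        have e2 : Qs k.castSucc = L (N - k) := if_pos (by simp; omega)
        rw [e1, e2, show N - (k : ℕ) = N - (k + 1) + 1 by omega]
        exact ⟨hLsc _, hRL _⟩
      · rw [hQs k.succ (by simp; omega), hQs k.castSucc (by simpa using hk)]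
        refine ⟨StronglyClosed.inf_left hRsc (hWsc _), le_inf ?_ ?_⟩
        · exact (Subgroup.commutator_mono le_rfl inf_le_left).trans (Subgroup.commutator_le_self R)
        · refine (Subgroup.commutator_mono hRS inf_le_right).trans ((hSW _).trans (le_of_eq ?_))
          simp only [Fin.val_succ, Fin.val_castSucc]
          congr 1
          have := k.2
          omega
  refine ⟨hn, ⟨hRS, fun R' hR' => ?_⟩, hTR⟩
  obtain ⟨φ, hφ, rfl⟩ := hR'
  haveI := finite_of_le hRS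
  have he : φ.range = R := by
    refine Subgroup.eq_of_le_of_card_ge ?_ (Nat.card_congr (MonoidHom.ofInjective (F.injective_of_mem hφ)).toEquiv).le
    rintro _ ⟨x, rfl⟩
    exact hRsc.2 R le_rfl φ hφ x
  rw [he]
  intro x hx
  refine Subgroup.mem_sup_right (Subgroup.mem_inf.mpr ⟨(Subgroup.mem_inf.mp hx).1, ?_⟩)
  exact Subgroup.centralizer_le (le_sup_left : Q₀ ≤ R) (Subgroup.mem_inf.mp hx).2

/-- A system with constrained `p`-residual subsystem is constrained. -/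
theorem IsSaturated.isConstrained_of_pResidual (hF : F.IsSaturated p) (hS : IsPGroup p S) {T : Subgroup Ω}
    {D : FusionSystem T} (hTS : T ≤ S) (hTn : (T.subgroupOf S).Normal) (hD : D.IsConstrained p)
    (hidx : D.HasPPowerIndexIn F p) :
    F.IsNormal (D.core ⊔ centralizerIn S D.core) ∧ F.IsCentric (D.core ⊔ centralizerIn S D.core) ∧
      T ⊓ (D.core ⊔ centralizerIn S D.core) = D.core ∧ F.IsNormal D.core := by
  haveI := finite_of_le hTS
  have hN := hF.isNormalIn_of_pPowerIndex hS hD.1 hTS hTn hidx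
  have hinv : D.IsInvariantIn F := hN.1.2.2
  have hQ := hinv.isNormal_core hF hS
  have hQT : D.core ≤ T := (isNormal_core D).1
  have hC : centralizerIn T D.core ≤ D.core :=
    hD.isCentric_core.2 _ ⟨D.core.subtype, D.id_mem hQT, Subgroup.range_subtype _⟩
  obtain ⟨h1, h2, h3⟩ := hF.isNormal_sup_centralizer hS hidx.2.1 hinv.2.1 hQ hQT hC
  exact ⟨h1, h2, h3, hQ⟩

end Cfsg.FusionSystem
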