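import Cfsg.Agent.Lib.Fusion.PSolvable
import Cfsg.Agent.Lib.PLocal.SolvableSeparable

/-!
Extensions of `p`-solvable groups by groups of prime-power or coprime order.
-/

set_option autoImplicit false
set_option linter.unusedSectionVars false
set_option linter.style.haveILetI false

universe u

namespace CfsgLib.PSolvableClosure

open Cfsg

variable {p : ℕ} [Fact p.Prime]

theorem of_subsingleton (G : Type u) [Group G] [Subsingleton G] : IsPSolvable p G :=
  ⟨0, fun _ => ⊥, rfl, Subsingleton.elim _ _, fun _ _ _ => le_rfl, fun _ => inferInstance, fun i => i.elim0⟩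

theorem of_card_or (G : Type u) [Group G] [Finite G]
    (h : (∃ m, Nat.card G = p ^ m) ∨ (Nat.card G).Coprime p) : IsPSolvable p G := by
  let f : G →* G ⧸ (⊤ : Subgroup G) := QuotientGroup.mk' ⊤
  have : Subsingleton (G ⧸ (⊤ : Subgroup G)) := QuotientGroup.subsingleton_iff.mpr rfl
  refine CfsgLib.PLocal.isPSolvable_of_ker f (QuotientGroup.mk'_surjective _) ?_ (of_subsingleton _)
  rwa [QuotientGroup.ker_mk', Subgroup.card_top]

/-- A normal subgroup of a group of `p`-solvable type has a characteristic piece of prime-power or coprime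
order. -/
theorem exists_characteristic (G : Type u) [Group G] [Finite G] [Nontrivial G] (h : IsPSolvable p G) :
    ∃ X : Subgroup G, X.Characteristic ∧ X ≠ ⊥ ∧ ((∃ m, Nat.card X = p ^ m) ∨ (Nat.card X).Coprime p) := by
  obtain ⟨n, K, h0, h1, hm, hn, hidx⟩ := h
  by_cases hall : ∀ i : Fin (n + 1), K i = ⊥
  · exact absurd ((hall _).symm.trans h1) bot_ne_top
  have key : ∀ i : Fin (n + 1), K i ≠ ⊥ → ∃ j : Fin n, K j.castSucc = ⊥ ∧ K j.succ ≠ ⊥ := by
    intro i
    induction i using Fin.induction with
    | zero => exact fun hh => absurd h0 hh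
    | succ j ih =>
      intro hj
      by_cases hc : K j.castSucc = ⊥
      · exact ⟨j, hc, hj⟩
      · exact ih hc
  obtain ⟨i, hi⟩ := not_forall.mp hall
  obtain ⟨j, hj0, hj1⟩ := key i hi
  haveI := hn j.succ
  have hc := hidx j
  rw [hj0, Subgroup.relIndex_bot_left] at hc
  rcases hc with hc | hc
  · refine ⟨pCore p G, inferInstance, fun he => hj1 (eq_bot_iff.mpr ?_), Or.inl ?_⟩
    · rw [← he]
      obtain ⟨m, hm'⟩ := hc
      exact CfsgLib.le_pCore (IsPGroup.of_card hm')
    · exact (CfsgLib.isPGroup_pCore p).exists_card_eq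
  · refine ⟨pPrimeCore p G, inferInstance, fun he => hj1 (eq_bot_iff.mpr ?_), Or.inr ?_⟩
    · rw [← he]
      exact CfsgLib.le_pPrimeCore hc
    · exact CfsgLib.card_pPrimeCore_coprime p

/-- A `p`-solvable normal subgroup of prime-power or coprime index forces `p`-solvability. -/
theorem of_normal (G : Type u) [Group G] [Finite G] (N : Subgroup G) [hN : N.Normal] (h : IsPSolvable p N)
    (hidx : (∃ m, N.index = p ^ m) ∨ N.index.Coprime p) : IsPSolvable p G := by
  suffices H : ∀ (k : ℕ) (G : Type u) [Group G] [Finite G] (N : Subgroup G) [N.Normal],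
      Nat.card G = k → IsPSolvable p N → ((∃ m, N.index = p ^ m) ∨ N.index.Coprime p) → IsPSolvable p G from
    H _ G N rfl h hidx
  intro k
  induction k using Nat.strong_induction_on with
  | _ k ih =>
  intro G _ _ N _ hk h hidx
  by_cases hb : N = ⊥
  · refine of_card_or G ?_
    subst hb
    rwa [Subgroup.index_bot] at hidx
  haveI : Nontrivial N := (Subgroup.nontrivial_iff_ne_bot N).mpr hb
  obtain ⟨X, hX, hX1, hXc⟩ := exists_characteristic N h
  haveI : (X.map N.subtype).Normal := ConjAct.normal_of_characteristic_of_normal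
  let π := QuotientGroup.mk' (X.map N.subtype)
  have hπ : Function.Surjective π := QuotientGroup.mk'_surjective _
  haveI : (N.map π).Normal := Subgroup.Normal.map inferInstance π hπ
  have hlt : Nat.card (G ⧸ X.map N.subtype) < k := by
    rw [← hk, ← Subgroup.index_eq_card]
    have h1 : 1 < Nat.card (X.map N.subtype) := by
      rw [Subgroup.one_lt_card_iff_ne_bot, ne_eq, Subgroup.map_eq_bot_iff_of_injective _ N.subtype_injective]
      exact hX1
    have h2 := (X.map N.subtype).index_mul_card
    have h3 : 0 < (X.map N.subtype).index := Nat.pos_of_ne_zero Subgroup.index_ne_zero_of_finite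
    nlinarith
  have hN' : IsPSolvable p (N.map π) := of_surjective (π.subgroupMap N) (π.subgroupMap_surjective N) h
  have hidx' : (N.map π).index = N.index :=
    Subgroup.index_map_eq _ hπ (by rw [QuotientGroup.ker_mk']; exact Subgroup.map_subtype_le _)
  refine CfsgLib.PLocal.isPSolvable_of_ker π hπ ?_ (ih _ hlt _ (N.map π) rfl hN' (hidx'.symm ▸ hidx))
  rwa [QuotientGroup.ker_mk', Subgroup.card_map_of_injective N.subtype_injective]

/-- Subgroups of `p`-solvable groups. -/
theorem subgroup (G : Type u) [Group G] [Finite G] (h : IsPSolvable p G) (T : Subgroup G) :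
    IsPSolvable p T := by
  obtain ⟨n, H, h0, h1, hm, hn, hf⟩ := h
  refine ⟨n, fun i => (H i).subgroupOf T, ?_, ?_, fun a b hab x hx => hm hab hx, fun i => ?_,
    fun i => ?_⟩
  · show (H 0).subgroupOf T = ⊥; rw [h0, Subgroup.bot_subgroupOf]
  · show (H (Fin.last n)).subgroupOf T = ⊤; rw [h1]; ext x; simp
  · haveI := hn i; exact Subgroup.Normal.comap inferInstance _
  · haveI := hn i.castSucc
    have hd : ((H i.castSucc).subgroupOf T).relIndex ((H i.succ).subgroupOf T) ∣
        (H i.castSucc).relIndex (H i.succ) := by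
      show ((H i.castSucc).comap T.subtype).relIndex ((H i.succ).comap T.subtype) ∣ _
      rw [Subgroup.relIndex_comap]
      have e : ∀ X : Subgroup G, (H i.castSucc).relIndex X =
          Nat.card (X.map (QuotientGroup.mk' (H i.castSucc))) := fun X => by
        rw [← Subgroup.relIndex_ker, QuotientGroup.ker_mk']
      rw [e, e]
      exact Subgroup.card_dvd_of_le (Subgroup.map_mono (Subgroup.map_comap_le _ _))
    rcases hf i with ⟨m, hm'⟩ | hc
    · obtain ⟨j, -, hj⟩ := (Nat.dvd_prime_pow (Fact.out : p.Prime)).1 (hm' ▸ hd)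
      exact Or.inl ⟨j, hj⟩
    · exact Or.inr (hc.coprime_dvd_left hd)

theorem of_injective {G : Type u} [Group G] [Finite G] {H : Type u} [Group H] [Finite H] (f : H →* G)
    (hf : Function.Injective f) (h : IsPSolvable p G) : IsPSolvable p H :=
  of_surjective (MonoidHom.ofInjective hf).symm.toMonoidHom (MulEquiv.surjective _) (subgroup G h f.range)

end CfsgLib.PSolvableClosure
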