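import Cfsg.Agent.Lib.Fusion.ResidualSeries.Constrained
import Cfsg.Agent.Lib.Fusion.ResidualSeries.PSolvExt
import Cfsg.Agent.Lib.Fusion.PSolvable
import Cfsg.Agent.Lib.PComplement

/-!
A system whose `p`-residual subsystem is constrained with `p`-solvable automiser has the same properties.
-/

set_option autoImplicit false
set_option linter.unusedSectionVars false
set_option linter.style.haveILetI false

universe u v

namespace Cfsg.FusionSystem

variable {Ω : Type u} [Group Ω] {S : Subgroup Ω} [Finite S] {p : ℕ} [Fact p.Prime] {F : FusionSystem S}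

/-- Conjugation in a model on a normal subgroup of the system. -/
theorem IsModel.exists_conj_hom {G : Type v} [Group G] {ι : S →* G} (hG : F.IsModel p G ι) {R : Subgroup Ω}
    (hR : F.IsNormal R) :
    ∃ ρ : G →* F.autGroup R, ∀ (l : G) (x : R),
      ι ⟨((ρ l : MulAut R) x : R), hR.1 ((ρ l : MulAut R) x).2⟩ = l * ι ⟨x, hR.1 x.2⟩ * l⁻¹ := by
  have hn := hG.normal_map hR
  obtain ⟨-, ⟨hinj, hiff⟩, -, -⟩ := hG
  let c : R →* G := ι.comp (Subgroup.inclusion hR.1)
  have hcinj : Function.Injective c := hinj.comp (Subgroup.inclusion_injective hR.1)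
  have hc' : c.range = (R.subgroupOf S).map ι := by
    ext y
    constructor
    · rintro ⟨x, rfl⟩
      exact ⟨Subgroup.inclusion hR.1 x, x.2, rfl⟩
    · rintro ⟨x, hx, rfl⟩
      exact ⟨⟨x, hx⟩, rfl⟩
  haveI : c.range.Normal := hc' ▸ hn
  let i : R ≃* c.range := MonoidHom.ofInjective hcinj
  let ρ : G →* MulAut R := ((MulAut.congr i.symm).toMonoidHom).comp MulAut.conjNormal
  have hρ : ∀ l x, c (ρ l x) = l * c x * l⁻¹ := by
    intro l x
    show c (i.symm (MulAut.conjNormal l (i x))) = _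
    exact (congrArg Subtype.val (i.apply_symm_apply _) :)
  have hρA : ∀ l, ρ l ∈ F.autGroup R := by
    intro l
    let φ : R →* Ω := R.subtype.comp (ρ l).toMonoidHom
    have hφ : φ ∈ F.Hom R := (hiff R hR.1 φ fun x => hR.1 (ρ l x).2).mpr ⟨l, hρ l⟩
    exact F.mem_autGroup_of_map hφ fun x => rfl
  exact ⟨ρ.codRestrict _ hρA, hρ⟩

/-- An element of order prime to `p` fixing the `p`-element by which it moves `y` fixes `y`. -/
theorem eq_one_of_fixed_commutator {G : Type v} [Group G] {x y z : G} (hx : (orderOf x).Coprime p)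
    (hz : ∃ k : ℕ, z ^ p ^ k = 1) (h : x * y * x⁻¹ = y * z) (hf : Commute x z) : z = 1 := by
  have key : ∀ n : ℕ, x ^ n * y * (x ^ n)⁻¹ = y * z ^ n := by
    intro n
    induction n with
    | zero => simp
    | succ n ih =>
      rw [pow_succ', mul_inv_rev,
        show x * x ^ n * y * ((x ^ n)⁻¹ * x⁻¹) = x * (x ^ n * y * (x ^ n)⁻¹) * x⁻¹ by group, ih,
        show x * (y * z ^ n) * x⁻¹ = x * y * x⁻¹ * (x * z ^ n * x⁻¹) by group, h,
        (hf.pow_right n).eq, mul_inv_cancel_right, pow_succ', mul_assoc]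
  have h1 := key (orderOf x)
  rw [pow_orderOf_eq_one] at h1
  simp only [one_mul, inv_one, mul_one] at h1
  have h2 : z ^ orderOf x = 1 := mul_eq_left.mp h1.symm
  obtain ⟨k, hk⟩ := hz
  exact orderOf_eq_one_iff.mp (Nat.eq_one_of_dvd_coprimes (hx.pow_right k)
    (orderOf_dvd_of_pow_eq_one h2) (orderOf_dvd_of_pow_eq_one hk))

/-- From the `p`-residual subsystem up to the system. -/
theorem IsSaturated.pSolvable_of_pResidual (hF : F.IsSaturated p) (hS : IsPGroup p S) {T : Subgroup Ω}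
    {D : FusionSystem T} (hTS : T ≤ S) (hTn : (T.subgroupOf S).Normal) (hD : D.IsConstrained p)
    (hsol : IsPSolvable p (D.autGroup D.core)) (hidx : D.HasPPowerIndexIn F p) :
    F.IsConstrained p ∧ IsPSolvable p (F.autGroup F.core) := by
  obtain ⟨hRn, hRc, hTR, hQn⟩ := hF.isConstrained_of_pResidual hS hTS hTn hD hidx
  have hcon : F.IsConstrained p := ⟨hF, _, hRn, hRc⟩
  refine ⟨hcon, ?_⟩
  obtain ⟨L, _, ι, hL⟩ := (hcon.setup_core hS).exists_isModel
  haveI := hL.1
  obtain ⟨σ, hσ, -⟩ := hL.exists_aut_hom hS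
  refine CfsgLib.PSolvableClosure.of_surjective σ hσ ?_
  obtain ⟨ρ₀, hρ₀⟩ := hL.exists_conj_hom hQn
  obtain ⟨ρR, hρR⟩ := hL.exists_conj_hom hRn
  haveI := finite_of_le hTS
  have hQT : D.core ≤ T := (isNormal_core D).1
  haveI : Finite (D.autGroup D.core) := finite_autGroup hQT
  obtain ⟨U, hU⟩ := hL.2.2.1
  have hinj : Function.Injective ι := hL.2.1.1
  have hp : ∀ g : S, ∃ k : ℕ, ι g ^ p ^ k = 1 := fun g => by
    obtain ⟨k, hk⟩ := hS g
    exact ⟨k, by rw [← map_pow, hk, map_one]⟩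
  -- elements of order prime to `p` act faithfully on the core of the residual subsystem
  have hfaith : ∀ x : L, (orderOf x).Coprime p → ρ₀ x = 1 → x = 1 := by
    intro x hx hx0
    have hfix : ∀ q : S, (q : Ω) ∈ D.core → Commute x (ι q) := by
      intro q hq
      have h1 := hρ₀ x ⟨q, hq⟩
      rw [hx0] at h1
      exact mul_inv_eq_iff_eq_mul.mp h1.symm
    have hR : ∀ r : S, (r : Ω) ∈ D.core ⊔ centralizerIn S D.core → Commute x (ι r) := by
      intro r hr
      have hα : (orderOf (ρR x : MulAut ↥(D.core ⊔ centralizerIn S D.core))).Coprime p :=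
        hx.coprime_dvd_left (orderOf_map_dvd ((F.autGroup _).subtype.comp ρR) x)
      have hg := hyperfocal_gen_mem hRn.1 (ρR x).2 hα ⟨r, hr⟩
      generalize hs : (ρR x : MulAut ↥(D.core ⊔ centralizerIn S D.core)) ⟨r, hr⟩ = s at hg
      have hz : (r : Ω)⁻¹ * (s : Ω) ∈ D.core :=
        hTR.le (Subgroup.mem_inf.mpr ⟨hidx.2.1 hg, mul_mem (InvMemClass.inv_mem hr) s.2⟩)
      let z : S := r⁻¹ * ⟨s, hRn.1 s.2⟩
      have h1 := hρR x ⟨r, hr⟩
      simp only [hs] at h1
      have h2 : x * ι r * x⁻¹ = ι r * ι z := by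
        rw [← map_mul, mul_inv_cancel_left]
        exact h1.symm
      have h3 := eq_one_of_fixed_commutator hx (hp z) h2 (hfix z hz)
      rw [h3, mul_one] at h2
      exact mul_inv_eq_iff_eq_mul.mp h2
    have hC : x ∈ pCore p L := hL.2.2.2 (Subgroup.mem_centralizer_iff.mpr fun y hy => by
      have hz0 : y⁻¹ * (x * y * x⁻¹) ∈ pCore p L :=
        mul_mem (InvMemClass.inv_mem hy) ((inferInstance : (pCore p L).Normal).conj_mem y hy x)
      obtain ⟨z, hz⟩ := (hU ▸ CfsgLib.pCore_le_sylow U : pCore p L ≤ ι.range) hz0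
      have hzR : (z : Ω) ∈ D.core ⊔ centralizerIn S D.core := by
        refine hRc.2 _ ⟨_, F.id_mem hRn.1, Subgroup.range_subtype _⟩
          (Subgroup.mem_inf.mpr ⟨z.2, Subgroup.mem_centralizer_iff.mpr fun r hr => ?_⟩)
        refine (congrArg Subtype.val (hinj (?_ : ι (⟨r, hRn.1 hr⟩ * z) = ι (z * ⟨r, hRn.1 hr⟩))) :)
        rw [map_mul, map_mul, hz]
        set a := ι ⟨r, hRn.1 hr⟩ with ha
        have hxa : x * a = a * x := hR ⟨r, hRn.1 hr⟩ hr
        have hyn : y * a * y⁻¹ ∈ ((D.core ⊔ centralizerIn S D.core).subgroupOf S).map ι :=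
          (hL.normal_map hRn).conj_mem _ ⟨_, hr, ha.symm⟩ y
        obtain ⟨b, hb, hbe⟩ := hyn
        have hxb : x * (y * a * y⁻¹) = (y * a * y⁻¹) * x := hbe ▸ hR b hb
        have e1 : x * y * x⁻¹ * a = y * a * y⁻¹ * (x * y * x⁻¹) := by
          calc x * y * x⁻¹ * a = x * y * x⁻¹ * (a * x) * x⁻¹ := by group
            _ = x * y * x⁻¹ * (x * a) * x⁻¹ := by rw [hxa]
            _ = x * (y * a * y⁻¹) * y * x⁻¹ := by group
            _ = (y * a * y⁻¹) * x * y * x⁻¹ := by rw [hxb]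
            _ = _ := by group
        calc a * (y⁻¹ * (x * y * x⁻¹)) = y⁻¹ * (y * a * y⁻¹ * (x * y * x⁻¹)) := by group
          _ = y⁻¹ * (x * y * x⁻¹ * a) := by rw [e1]
          _ = _ := by group
      have h2 : x * y * x⁻¹ = y * ι z := by rw [hz]; group
      rw [eq_one_of_fixed_commutator hx (hp z) h2 (hR z hzR), mul_one] at h2
      exact (mul_inv_eq_iff_eq_mul.mp h2).symm)
    obtain ⟨k, hk⟩ := CfsgLib.isPGroup_pCore (G := L) p ⟨x, hC⟩
    exact orderOf_eq_one_iff.mp (Nat.eq_one_of_dvd_coprimes (hx.pow_right k) dvd_rfl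
      (orderOf_dvd_of_pow_eq_one (congrArg Subtype.val hk :)))
  have hmem : ∀ n : pResidual p L, (ρ₀ n : MulAut D.core) ∈ D.autGroup D.core := by
    intro n
    have h : pResidual p L ≤ (D.autGroup D.core).comap ((F.autGroup _).subtype.comp ρ₀) :=
      CfsgLib.pResidual_le fun g hg => hidx.2.2 _ hQT
        ⟨ρ₀ g, CfsgLib.mem_pResidual (hg.coprime_dvd_left (orderOf_map_dvd ρ₀ g)), rfl⟩
    exact h n.2
  let φ : pResidual p L →* D.autGroup D.core :=
    (((F.autGroup _).subtype.comp ρ₀).comp (pResidual p L).subtype).codRestrict _ hmem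
  have hker : IsPGroup p φ.ker := by
    rintro ⟨⟨g, hg⟩, hgk⟩
    have h1 : ρ₀ g = 1 := Subtype.ext (congrArg Subtype.val (hgk : φ ⟨g, hg⟩ = 1) :)
    refine ⟨(orderOf g).factorization p, Subtype.ext (Subtype.ext ?_)⟩
    show g ^ p ^ (orderOf g).factorization p = 1
    refine hfaith _ ?_ (by rw [map_pow, h1, one_pow])
    rw [orderOf_pow_of_dvd (pow_ne_zero _ (Fact.out : p.Prime).ne_zero) (Nat.ordProj_dvd _ p)]
    exact (Nat.coprime_ordCompl Fact.out (orderOf_pos g).ne').symm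
  have hN : IsPSolvable p (pResidual p L) :=
    CfsgLib.PSolvableClosure.of_isPGroup_ker φ.rangeRestrict φ.rangeRestrict_surjective
      (by rwa [φ.ker_rangeRestrict]) (CfsgLib.PSolvableClosure.subgroup _ hsol φ.range)
  refine CfsgLib.PSolvableClosure.of_normal L (pResidual p L) hN (Or.inl ?_)
  obtain ⟨k, hk⟩ := (CfsgLib.isPGroup_quotient_of_pResidual_le (p := p) (G := L) le_rfl).exists_card_eq
  exact ⟨k, by rw [Subgroup.index_eq_card, hk]⟩

end Cfsg.FusionSystem
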