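import Cfsg.Agent.Lib.Fusion.ResidualSeries.Down
import Cfsg.Agent.Lib.Fusion.ResidualSeries.Up
import Cfsg.Agent.Lib.Fusion.PPowerIndex
import Cfsg.Agent.Lib.Fusion.Image

/-!
Terminating residual series and constrained systems with `p`-solvable models.
-/

set_option autoImplicit false
set_option linter.unusedSectionVars false
set_option linter.style.haveILetI false

universe u v

namespace CfsgLib.PSolvableClosure

open Cfsg

variable {p : ℕ} [Fact p.Prime]

theorem exists_pow_eq_coprime {G : Type u} [Group G] [Finite G] {M : Type v} [Group M] {a : M}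
    (ha : (orderOf a).Coprime p) (g : G) : ∃ m : ℕ, a ^ m = a ∧ (orderOf (g ^ m)).Coprime p := by
  have hq : (p ^ (orderOf g).factorization p).Coprime (orderOf a) := (Nat.Coprime.pow_right _ ha).symm
  obtain ⟨m, hm1, hm2⟩ := Nat.chineseRemainder hq 0 1
  refine ⟨m, ?_, ?_⟩
  · conv_rhs => rw [← pow_one a]
    exact pow_eq_pow_iff_modEq.mpr hm2
  · obtain ⟨t, rfl⟩ := Nat.modEq_zero_iff_dvd.mp hm1
    rw [pow_mul]
    refine Nat.Coprime.coprime_dvd_left (orderOf_pow_dvd _) ?_
    rw [orderOf_pow, Nat.gcd_eq_right (Nat.ordProj_dvd _ _)]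
    exact (Nat.coprime_ordCompl Fact.out (orderOf_pos g).ne').symm

theorem exists_pow_eq_pElement {G : Type u} [Group G] [Finite G] {M : Type v} [Group M] {a : M}
    (ha : ∃ k : ℕ, a ^ p ^ k = 1) (g : G) : ∃ m : ℕ, a ^ m = a ∧ ∃ k : ℕ, (g ^ m) ^ p ^ k = 1 := by
  obtain ⟨k, hk⟩ := ha
  have hc : (orderOf g / p ^ (orderOf g).factorization p).Coprime (orderOf a) :=
    Nat.Coprime.coprime_dvd_right (orderOf_dvd_of_pow_eq_one hk)
      (Nat.Coprime.pow_right _ (Nat.coprime_ordCompl Fact.out (orderOf_pos g).ne').symm)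
  obtain ⟨m, hm1, hm2⟩ := Nat.chineseRemainder hc 0 1
  refine ⟨m, ?_, (orderOf g).factorization p, ?_⟩
  · conv_rhs => rw [← pow_one a]
    exact pow_eq_pow_iff_modEq.mpr hm2
  · rw [← pow_mul, ← orderOf_dvd_iff_pow_eq_one]
    obtain ⟨t, rfl⟩ := Nat.modEq_zero_iff_dvd.mp hm1
    exact ⟨t, by rw [mul_right_comm, Nat.div_mul_cancel (Nat.ordProj_dvd _ _)]⟩

theorem bot_eq_top_of_perfect {G : Type u} [Group G] [Finite G] (h : IsPSolvable p G)
    (h1 : pResidual p G = ⊤) (h2 : Subgroup.closure {g : G | ∃ k : ℕ, g ^ p ^ k = 1} = ⊤) :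
    (⊥ : Subgroup G) = ⊤ := by
  obtain ⟨n, K, h0, ht, hm, hn, hidx⟩ := h
  have key : ∀ i, K i = ⊤ := by
    intro i
    induction i using Fin.reverseInduction with
    | last => exact ht
    | cast j ih =>
      haveI := hn j.castSucc
      have hc := hidx j
      rw [ih, Subgroup.relIndex_top_right] at hc
      rcases hc with ⟨m, hm'⟩ | hc
      · rw [eq_top_iff, ← h1]
        exact CfsgLib.pResidual_le_of_isPGroup_quotient
          (IsPGroup.of_card (n := m) (by rw [← Subgroup.index_eq_card, hm']))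
      · rw [eq_top_iff, ← h2, Subgroup.closure_le]
        rintro g ⟨k, hk⟩
        refine (QuotientGroup.eq_one_iff g).mp (orderOf_eq_one_iff.mp ?_)
        refine Nat.eq_one_of_dvd_coprimes (hc.pow_right k) ?_ ?_
        · rw [Subgroup.index_eq_card]
          exact orderOf_dvd_natCard _
        · exact (orderOf_map_dvd (QuotientGroup.mk' (K j.castSucc)) g).trans (orderOf_dvd_of_pow_eq_one hk)
  exact h0.symm.trans (key 0)

end CfsgLib.PSolvableClosure

namespace Cfsg.FusionSystem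

section

variable {Ω : Type*} [Group Ω] {S : Subgroup Ω}

/-- The maps inside `T` of a system that are induced by elements of a subgroup `N` of a realising group. -/
def inducedSystem (F : FusionSystem S) {T : Subgroup Ω} (hTS : T ≤ S) {L : Type*} [Group L] (ι : S →* L)
    (N : Subgroup L) (hN : ∀ t : S, (t : Ω) ∈ T → ι t ∈ N) : FusionSystem T where
  Hom P := {φ | φ ∈ (restrictTo F hTS).Hom P ∧
    ∃ g ∈ N, ∀ (x : P) (h1 : (x : Ω) ∈ S) (h2 : φ x ∈ S), ι ⟨φ x, h2⟩ = g * ι ⟨x, h1⟩ * g⁻¹}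
  le_of_mem h := (restrictTo F hTS).le_of_mem h.1
  injective_of_mem h := (restrictTo F hTS).injective_of_mem h.1
  conj_mem := by
    intro P g hP hg
    refine ⟨(restrictTo F hTS).conj_mem hP hg, ι ⟨g, hTS hg⟩, hN _ hg, fun x h1 h2 => ?_⟩
    rw [← map_inv, ← map_mul, ← map_mul]
    rfl
  comp_mem := by
    rintro P Q φ ψ ⟨hφ, g, hg, hge⟩ ⟨hψ, k, hk, hke⟩ h
    refine ⟨(restrictTo F hTS).comp_mem hφ hψ h, k * g, mul_mem hk hg, fun x h1 h2 => ?_⟩
    have h3 : φ x ∈ S := hTS ((restrictTo F hTS).apply_mem hφ x)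
    rw [show k * g * ι ⟨x, h1⟩ * (k * g)⁻¹ = k * (g * ι ⟨x, h1⟩ * g⁻¹) * k⁻¹ by group, ← hge x h1 h3]
    exact hke ⟨φ x, h x⟩ h3 h2
  inv_mem := by
    rintro P φ ⟨hφ, g, hg, hge⟩
    obtain ⟨ψ, hψ, he⟩ := (restrictTo F hTS).inv_mem hφ
    refine ⟨ψ, ⟨hψ, g⁻¹, InvMemClass.inv_mem hg, ?_⟩, he⟩
    rintro ⟨_, x, rfl⟩ h1 h2
    have h3 : (x : Ω) ∈ S := hTS ((restrictTo F hTS).source_le hφ x.2)
    rw [show (⟨φ x, h1⟩ : S) = ⟨φ x, h1⟩ from rfl, hge x h3 h1,
      show (⟨ψ ⟨φ x, _⟩, h2⟩ : S) = ⟨x, h3⟩ from Subtype.ext (he x)]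
    group

/-- Powers of an automorphism induced by `g` are induced by powers of `g`. -/
theorem induced_pow {L : Type*} [Group L] {ι : S →* L} {P : Subgroup Ω} (hP : P ≤ S) {α : MulAut P} {g : L}
    (h : ∀ x : P, ι ⟨(α x : P), hP (α x).2⟩ = g * ι ⟨x, hP x.2⟩ * g⁻¹) (m : ℕ) (x : P) :
    ι ⟨((α ^ m) x : P), hP ((α ^ m) x).2⟩ = g ^ m * ι ⟨x, hP x.2⟩ * (g ^ m)⁻¹ := by
  induction m generalizing x with
  | zero => simp
  | succ n ih =>
    simp only [pow_succ, MulAut.mul_apply]
    rw [ih, h]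
    group

theorem IsRealizedBy.exists_induced {F : FusionSystem S} {L : Type*} [Group L] {ι : S →* L}
    (h : F.IsRealizedBy ι) {P : Subgroup Ω} (hP : P ≤ S) {α : MulAut P} (hα : α ∈ F.autGroup P) :
    ∃ g : L, ∀ x : P, ι ⟨(α x : P), hP (α x).2⟩ = g * ι ⟨x, hP x.2⟩ * g⁻¹ :=
  (h.2 P hP _ fun x => hP (α x).2).mp ((F.mem_autGroup_iff hP).mp hα)

theorem mem_autGroup_inducedSystem {F : FusionSystem S} {T : Subgroup Ω} {hTS : T ≤ S} {L : Type*} [Group L]
    {ι : S →* L} {N : Subgroup L} {hN : ∀ t : S, (t : Ω) ∈ T → ι t ∈ N} {P : Subgroup Ω} (hP : P ≤ T)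
    {α : MulAut P} (hα : α ∈ F.autGroup P) {g : L} (hg : g ∈ N)
    (h : ∀ x : P, ι ⟨(α x : P), hTS (hP (α x).2)⟩ = g * ι ⟨x, hTS (hP x.2)⟩ * g⁻¹) :
    α ∈ (inducedSystem F hTS ι N hN).autGroup P :=
  ((inducedSystem F hTS ι N hN).mem_autGroup_iff hP).mpr
    ⟨⟨hP, fun x => hP (α x).2, (F.mem_autGroup_iff (hP.trans hTS)).mp hα⟩, g, hg, fun x _ _ => h x⟩

theorem inducedSystem_isRealizedBy {F : FusionSystem S} {T : Subgroup Ω} {hTS : T ≤ S} {L : Type*} [Group L]
    {ι : S →* L} (h : F.IsRealizedBy ι) {N : Subgroup L} {hN : ∀ t : S, (t : Ω) ∈ T → ι t ∈ N} :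
    (inducedSystem F hTS ι N hN).IsRealizedBy
      ((ι.comp (Subgroup.inclusion hTS)).codRestrict N fun t => hN _ t.2) := by
  refine ⟨fun a b e => ?_, fun P hP φ hφ => ⟨?_, ?_⟩⟩
  · exact Subgroup.inclusion_injective hTS (h.1 (congrArg Subtype.val e :))
  · rintro ⟨-, g, hg, he⟩
    exact ⟨⟨g, hg⟩, fun x => Subtype.ext (he x (hTS (hP x.2)) (hTS (hφ x)))⟩
  · rintro ⟨g, hg⟩
    refine ⟨⟨hP, hφ, ?_⟩, g, g.2, fun x _ _ => (congrArg Subtype.val (hg x) :)⟩
    exact (h.2 P (hP.trans hTS) φ fun x => hTS (hφ x)).mpr ⟨g, fun x => (congrArg Subtype.val (hg x) :)⟩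

end

variable {Ω : Type u} [Group Ω]

/-- A constrained system with `p`-solvable model that is its own `p'`-residual has a proper hyperfocal
subgroup, and its `p`-residual subsystem is of the same kind. -/
theorem IsPPrimeResidual.exists_pResidual {S : Subgroup Ω} [Finite S] {p : ℕ} [Fact p.Prime]
    {F E : FusionSystem S} (hS : IsPGroup p S) (hS1 : S ≠ ⊥)
    (hres : F.IsPPrimeResidual p E) (hE : E.IsConstrained p) (hsol : IsPSolvable p (E.autGroup E.core)) :
    E.hyperfocalSubgroup p ≠ S ∧ ∃ D : FusionSystem (E.hyperfocalSubgroup p), E.IsPResidual p D ∧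
      D.IsConstrained p ∧ IsPSolvable p (D.autGroup D.core) := by
  obtain ⟨L, _, ι, hL⟩ := (hE.setup_core hS).exists_isModel
  haveI := hL.1
  obtain ⟨σ, hσ, hσk⟩ := hL.exists_aut_hom hS
  haveI := finite_autGroup (F := E) (isNormal_core E).1
  have hLsol : IsPSolvable p L := CfsgLib.PSolvableClosure.of_isPGroup_ker σ hσ hσk hsol
  have hreal := hL.2.1
  obtain ⟨U, hU⟩ := hL.2.2.1
  have hTS : E.hyperfocalSubgroup p ≤ S := hyperfocalSubgroup_le
  constructor
  · intro heq
    set M : Subgroup L := Subgroup.closure {g : L | ∃ k : ℕ, g ^ p ^ k = 1} with hM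
    have hpel : ∀ {g : L}, (∃ k : ℕ, g ^ p ^ k = 1) → g ∈ M := fun hg => Subgroup.subset_closure hg
    have hSM : ∀ t : S, (t : Ω) ∈ S → ι t ∈ M := fun t _ => by
      obtain ⟨k, hk⟩ := hS t
      exact hpel ⟨k, by rw [← map_pow, hk, map_one]⟩
    let E' := inducedSystem E (le_refl S) ι M hSM
    let ι' : S →* M := (ι.comp (Subgroup.inclusion (le_refl S))).codRestrict M fun t => hSM _ t.2
    have hE'r : E'.IsRealizedBy ι' := inducedSystem_isRealizedBy hreal
    have hUM : (U : Subgroup L) ≤ M := hU ▸ (by rintro _ ⟨s, rfl⟩; exact hSM s s.2)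
    let U' : Sylow p M := U.subtype hUM
    have hU' : (U' : Subgroup M) = ι'.range := by
      ext y
      constructor
      · intro hy
        obtain ⟨s, hs⟩ := hU.le (Subgroup.mem_subgroupOf.mp hy)
        exact ⟨s, Subtype.ext hs⟩
      · rintro ⟨s, rfl⟩
        exact Subgroup.mem_subgroupOf.mpr (hU.ge ⟨s, rfl⟩)
    have hidx' : E'.HasPrimeToPIndexIn F p := by
      refine ⟨fun P φ hφ => hres.2.1.1 P hφ.1.2.2, fun P hP => ?_⟩
      rw [Subgroup.map_le_iff_le_comap, Subgroup.closure_le]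
      rintro α ⟨k, hk⟩
      have hαE : (α : MulAut P) ∈ E.autGroup P :=
        hres.2.1.2 P hP ⟨α, Subgroup.subset_closure ⟨k, hk⟩, rfl⟩
      have hαp : ∃ k : ℕ, (α : MulAut P) ^ p ^ k = 1 :=
        ⟨k, by rw [← SubmonoidClass.coe_pow, ← hk, pow_orderOf_eq_one, OneMemClass.coe_one]⟩
      obtain ⟨g, hg⟩ := hreal.exists_induced hP hαE
      obtain ⟨m, hm, hgm⟩ := CfsgLib.PSolvableClosure.exists_pow_eq_pElement hαp g
      refine mem_autGroup_inducedSystem hP hαE (hpel hgm) fun x => ?_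
      have := induced_pow hP hg m x
      simp only [hm] at this
      exact this
    have hmin : E.IsSubsystemOf E' := hres.2.2 E' (hE'r.isSaturated U' hU') hidx'
    have hgen : (⊤ : Subgroup M) ≤ pResidual p M := by
      have hhyp : E.hyperfocalSubgroup p ≤ ((pResidual p M).comap ι').map S.subtype := by
        refine hyperfocalSubgroup_le_iff.mpr fun P hP α hα hαp x => ?_
        obtain ⟨-, g, hg, he⟩ := hmin P ((E.mem_autGroup_iff hP).mp hα)
        obtain ⟨m, hm, hgm⟩ := CfsgLib.PSolvableClosure.exists_pow_eq_coprime hαp (⟨g, hg⟩ : M)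
        have h1 := induced_pow hP (fun y => he y (hP y.2) (hP (α y).2)) m x
        simp only [hm] at h1
        refine ⟨⟨x, hP x.2⟩⁻¹ * ⟨(α x : P), hP (α x).2⟩, ?_, rfl⟩
        show ι' _ ∈ pResidual p M
        rw [map_mul, map_inv, show ι' ⟨(α x : P), hP (α x).2⟩ =
          (⟨g, hg⟩ : M) ^ m * ι' ⟨x, hP x.2⟩ * ((⟨g, hg⟩ : M) ^ m)⁻¹ from Subtype.ext h1,
          ← mul_assoc, ← mul_assoc]
        refine mul_mem ?_ (InvMemClass.inv_mem (CfsgLib.mem_pResidual hgm))
        simpa using (inferInstance : (pResidual p M).Normal).conj_mem _ (CfsgLib.mem_pResidual hgm) (ι' ⟨x, hP x.2⟩)⁻¹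
      rw [← CfsgLib.sylow_sup_eq_top_of_pResidual_le U' (le_refl (pResidual p M)), hU']
      refine sup_le le_rfl ?_
      rintro _ ⟨s, rfl⟩
      obtain ⟨t, ht, hts⟩ := hhyp (heq.ge s.2)
      rw [show s = t from Subtype.ext hts.symm]
      exact ht
    have htriv := CfsgLib.PSolvableClosure.bot_eq_top_of_perfect
      (CfsgLib.PSolvableClosure.subgroup L hLsol M) (top_le_iff.mp hgen) (top_le_iff.mp (by
        rw [← Subgroup.closure_closure_coe_preimage (k := {g : L | ∃ k : ℕ, g ^ p ^ k = 1})]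
        refine Subgroup.closure_mono fun g hg => ?_
        obtain ⟨k, hk⟩ := hg
        exact ⟨k, Subtype.ext hk⟩))
    refine hS1 (eq_bot_iff.mpr fun s hs => ?_)
    have h1 : ι' ⟨s, hs⟩ = 1 := Subgroup.mem_bot.mp (htriv.ge (Subgroup.mem_top _))
    rw [← map_one ι'] at h1
    exact Subgroup.mem_bot.mpr (congrArg Subtype.val (hE'r.1 h1) :)
  have hUT : ∀ s : S, ι s ∈ pResidual p L → (s : Ω) ∈ E.hyperfocalSubgroup p := by
    intro s hs
    have hle : (groupFusionSystem (U : Subgroup L)).hyperfocalSubgroup p ≤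
        ((E.hyperfocalSubgroup p).subgroupOf S).map ι := by
      refine (hyperfocal_group_le_iff U).mpr fun Q hQ g hg hgp x hx => ?_
      let P : Subgroup Ω := (Q.comap ι).map S.subtype
      have hP : P ≤ S := Subgroup.map_subtype_le _
      let c : P →* L := ι.comp (Subgroup.inclusion hP)
      have hcinj : Function.Injective c := hreal.1.comp (Subgroup.inclusion_injective hP)
      have hc : c.range = Q := by
        ext y
        constructor
        · rintro ⟨⟨_, t, ht, rfl⟩, rfl⟩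
          exact ht
        · intro hy
          obtain ⟨t, rfl⟩ := hU.le (hQ hy)
          exact ⟨⟨_, t, hy, rfl⟩, rfl⟩
      let i : P ≃* Q := (MonoidHom.ofInjective hcinj).trans (MulEquiv.subgroupCongr hc)
      obtain ⟨β, -, hβ⟩ := coe_autInducedBy_apply (K := ⊤) (P := Q) (g := g) trivial hg
      let α : MulAut P := MulAut.congr i.symm β
      have hαg : ∀ y : P, c (α y) = g * c y * g⁻¹ := fun y => by
        refine Eq.trans ?_ (hβ (i y))
        exact congrArg Subtype.val (i.apply_symm_apply (β (i y)))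
      have hαE : α ∈ E.autGroup P :=
        (E.mem_autGroup_iff hP).mpr ((hreal.2 P hP _ fun y => hP (α y).2).mpr ⟨g, hαg⟩)
      have hαp : (orderOf α).Coprime p := by
        rw [MulEquiv.orderOf_eq]
        exact hgp.coprime_dvd_left (orderOf_dvd_of_conj hβ)
      obtain ⟨t, rfl⟩ := hU.le (hQ hx)
      have htP : (t : Ω) ∈ P := ⟨t, hx, rfl⟩
      refine ⟨t⁻¹ * ⟨(α ⟨t, htP⟩ : P), hP (α _).2⟩, hyperfocal_gen_mem hP hαE hαp ⟨t, htP⟩, ?_⟩
      rw [map_mul, map_inv]
      exact congrArg ((ι t)⁻¹ * ·) (hαg ⟨t, htP⟩)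
    rw [hyperfocalSubgroup_groupFusionSystem] at hle
    obtain ⟨t, ht, hts⟩ := hle (Subgroup.mem_inf.mpr ⟨hU.ge ⟨s, rfl⟩, hs⟩)
    rw [← hreal.1 hts]
    exact ht
  have hTN : ∀ t : S, (t : Ω) ∈ E.hyperfocalSubgroup p → ι t ∈ pResidual p L := by
    have hle : E.hyperfocalSubgroup p ≤ ((pResidual p L).comap ι).map S.subtype := by
      refine hyperfocalSubgroup_le_iff.mpr fun P hP α hα hαp x => ?_
      obtain ⟨g, hg⟩ := hreal.exists_induced hP hα
      obtain ⟨m, hm, hgm⟩ := CfsgLib.PSolvableClosure.exists_pow_eq_coprime hαp g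
      have h1 := induced_pow hP hg m x
      simp only [hm] at h1
      refine ⟨⟨x, hP x.2⟩⁻¹ * ⟨(α x : P), hP (α x).2⟩, ?_, rfl⟩
      show ι _ ∈ pResidual p L
      rw [map_mul, map_inv, h1, ← mul_assoc, ← mul_assoc]
      refine mul_mem ?_ (InvMemClass.inv_mem (CfsgLib.mem_pResidual hgm))
      simpa using (inferInstance : (pResidual p L).Normal).conj_mem _ (CfsgLib.mem_pResidual hgm) (ι ⟨x, hP x.2⟩)⁻¹
    intro t ht
    obtain ⟨t', ht', e⟩ := hle ht
    rw [show t = t' from Subtype.ext e.symm]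
    exact ht'
  let D := inducedSystem E hTS ι (pResidual p L) hTN
  have hDr : D.IsRealizedBy ((ι.comp (Subgroup.inclusion hTS)).codRestrict (pResidual p L) fun t => hTN _ t.2) :=
    inducedSystem_isRealizedBy hreal
  have hDs : D.IsSaturated p := by
    haveI := finite_of_le hTS
    refine hDr.isSaturated (CfsgLib.sylowInfNormal U (pResidual p L)) ?_
    ext y
    constructor
    · intro hy
      obtain ⟨s, hs⟩ := hU.le (Subgroup.mem_subgroupOf.mp hy : (y : L) ∈ (U : Subgroup L))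
      exact ⟨⟨s, hUT s (hs.symm ▸ y.2)⟩, Subtype.ext hs⟩
    · rintro ⟨t, rfl⟩
      exact Subgroup.mem_subgroupOf.mpr (hU.ge ⟨_, rfl⟩)
  have hidx : D.HasPPowerIndexIn E p := by
    refine ⟨fun P φ hφ => hφ.1.2.2, le_rfl, fun P hP => ?_⟩
    rw [Subgroup.map_le_iff_le_comap, pResidual, Subgroup.closure_le]
    intro α hα
    obtain ⟨g, hg⟩ := hreal.exists_induced (hP.trans hTS) α.2
    have hαp : (orderOf (α : MulAut P)).Coprime p := by rw [Subgroup.orderOf_coe]; exact hα
    obtain ⟨m, hm, hgm⟩ := CfsgLib.PSolvableClosure.exists_pow_eq_coprime hαp g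
    refine mem_autGroup_inducedSystem hP α.2 (CfsgLib.mem_pResidual hgm) fun x => ?_
    have := induced_pow (hP.trans hTS) hg m x
    simp only [hm] at this
    exact this
  have hsc : E.StronglyClosed (E.hyperfocalSubgroup p) := Cfsg.Agent.S5124.result p hS E hE.1
  have hDc : D.IsConstrained p := IsConstrained.of_subsystem hS hE hDs hidx.1 hsc
  refine ⟨D, ⟨hDs, hidx⟩, hDc, ?_⟩
  haveI := finite_of_le hTS
  have hN := hE.1.isNormalIn_of_pPowerIndex hS hDs hTS hsc.subgroupOf_normal hidx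
  have hQ : E.IsNormal D.core := hN.1.2.2.isNormal_core hE.1 hS
  obtain ⟨ρ, hρ⟩ := hL.exists_conj_hom hQ
  haveI := finite_autGroup (F := E) hQ.1
  haveI := finite_autGroup (F := D) (isNormal_core D).1
  have hρs : Function.Surjective ρ := by
    rintro ⟨α, hα⟩
    obtain ⟨g, hg⟩ := hreal.exists_induced hQ.1 hα
    refine ⟨g, Subtype.ext (MulEquiv.ext fun x => Subtype.ext ?_)⟩
    exact (congrArg Subtype.val (hreal.1 ((hρ g x).trans (hg x).symm)) :)
  have hmem : ∀ α : D.autGroup D.core, (α : MulAut D.core) ∈ E.autGroup D.core := fun α =>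
    (E.mem_autGroup_iff hQ.1).mpr (hidx.1 _ ((D.mem_autGroup_iff (isNormal_core D).1).mp α.2))
  exact CfsgLib.PSolvableClosure.of_injective ((D.autGroup D.core).subtype.codRestrict _ hmem)
    (fun a b h => Subtype.ext (congrArg Subtype.val h :))
    (CfsgLib.PSolvableClosure.of_surjective ρ hρs hLsol)

/-- A system with terminating residual series is constrained with `p`-solvable automiser of the core. -/
theorem HasTerminatingResidualSeries.pSolvable {S : Subgroup Ω} {F : FusionSystem S} {q : ℕ}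
    (h : F.HasTerminatingResidualSeries q) :
    ∀ [Fact q.Prime] [Finite S], IsPGroup q S → F.IsSaturated q →
      F.IsConstrained q ∧ IsPSolvable q (F.autGroup F.core) := by
  induction h with
  | @trivial S F q hS1 =>
    intro _ _ hS hF
    have hK := isNormal_core F
    refine ⟨⟨hF, F.core, hK, hK.1, fun R hR => ?_⟩, ?_⟩
    · intro x hx
      rw [Subgroup.mem_bot.mp (hS1.le (Subgroup.mem_inf.mp hx).1)]
      exact one_mem _
    · haveI : Subsingleton F.core := ⟨fun a b => Subtype.ext (by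
        rw [Subgroup.mem_bot.mp (hS1.le (hK.1 a.2)), Subgroup.mem_bot.mp (hS1.le (hK.1 b.2))])⟩
      haveI : Subsingleton (F.autGroup F.core) :=
        ⟨fun a b => Subtype.ext (MulEquiv.ext fun x => Subsingleton.elim _ _)⟩
      exact CfsgLib.PSolvableClosure.of_subsingleton _
  | @step S F E q D hres hD _ ih =>
    intro _ _ hS hF
    have hTS : E.hyperfocalSubgroup q ≤ S := hyperfocalSubgroup_le
    haveI := finite_of_le hTS
    obtain ⟨hDc, hDsol⟩ := ih (hS.to_le hTS) hD.1
    have hsc : E.StronglyClosed (E.hyperfocalSubgroup q) := Cfsg.Agent.S5124.result q hS E hres.1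
    obtain ⟨hEc, hEsol⟩ := hres.1.pSolvable_of_pResidual hS hTS hsc.subgroupOf_normal hDc hDsol hD.2
    exact hF.pSolvable_of_pPrimeResidual hS hres hEc hEsol

/-- Constrained systems with `p`-solvable automiser of the core have terminating residual series. -/
theorem hasTerminatingResidualSeries_of_pSolvable {p : ℕ} [Fact p.Prime] :
    ∀ (n : ℕ) {S : Subgroup Ω} [Finite S] (F : FusionSystem S), Nat.card S = n → IsPGroup p S →
      F.IsConstrained p → IsPSolvable p (F.autGroup F.core) → F.HasTerminatingResidualSeries p := by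
  intro n
  induction n using Nat.strong_induction_on with
  | _ n ih =>
  intro S _ F hn hS hcon hsol
  by_cases hS1 : S = ⊥
  · exact .trivial F p hS1
  have hres : F.IsPPrimeResidual p (PrimeResidual.residual hS hcon.1) :=
    PrimeResidual.residual_isPPrimeResidual
  generalize PrimeResidual.residual hS hcon.1 = E at hres
  have hEc : E.IsConstrained p := IsConstrained.of_subsystem hS hcon hres.1 hres.2.1.1
    ⟨le_rfl, fun R _ φ hφ x => F.apply_mem hφ x⟩
  have hKS := (isNormal_core F).1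
  haveI := finite_autGroup (F := F) hKS
  haveI := finite_autGroup (F := E) hKS
  have hEsol : IsPSolvable p (E.autGroup E.core) := by
    rw [hres.core_eq hcon.1 hS]
    have hmem : ∀ α : E.autGroup F.core, (α : MulAut F.core) ∈ F.autGroup F.core := fun α =>
      (F.mem_autGroup_iff hKS).mpr (hres.2.1.1 _ ((E.mem_autGroup_iff hKS).mp α.2))
    exact CfsgLib.PSolvableClosure.of_injective ((E.autGroup F.core).subtype.codRestrict _ hmem)
      (fun a b h => Subtype.ext (congrArg Subtype.val h :)) hsol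
  obtain ⟨hne, D, hD, hDc, hDsol⟩ := hres.exists_pResidual hS hS1 hEc hEsol
  have hTS : E.hyperfocalSubgroup p ≤ S := hyperfocalSubgroup_le
  haveI := finite_of_le hTS
  have hlt : Nat.card (E.hyperfocalSubgroup p) < n := by
    rw [← hn]
    refine lt_of_le_of_ne (Subgroup.card_le_of_le hTS) fun e => hne ?_
    exact Subgroup.eq_of_le_of_card_ge hTS e.ge
  exact .step F E p D hres hD (ih _ hlt D rfl (hS.to_le hTS) hDc hDsol)

end Cfsg.FusionSystem
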